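import Cfsg.Agent.H69.EB.Rgd
import Cfsg.Agent.H326.EB.Chev
import Cfsg.Agent.KFacts.TwESix.OutTwo
import Cfsg.Agent.Nodes.RGDTwE6

/-!
# S4822, task EX3: the Borel subgroup of `²E₆(q)` and the automorphisms (helper69)
-/

set_option autoImplicit false
set_option linter.unusedSectionVars false

namespace Cfsg.Agent.H69.EB

open CoxeterSystem Cfsg.Agent.ChevalleyStructure.CoxeterGeom Cfsg.Agent.Tits.Roots Cfsg.Agent.Tits.Core
  Cfsg.Agent.Nodes.Reps Cfsg.Agent.Nodes.BNOf Cfsg.Agent.Nodes.Bruhat Cfsg.Agent.Nodes.OppDec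
  Cfsg.Agent.Nodes.RGDChev Cfsg.Agent.Nodes.RGDFold
  Cfsg.Agent.KFacts.RgdAut Cfsg.Agent.KFacts.RgdDiag Cfsg.Agent.KFacts.RgdRigid
open Cfsg.Lie Cfsg.Agent.ChevalleyStructure
open Cfsg.Agent.KFacts.TwESix.Out Cfsg.Agent.KFacts.TwESix.OutTwo Cfsg.Agent.Nodes.RGDTwE6
open Cfsg.Agent.ChevalleyStructure.TwE6Basic (exists_frob)

universe u

variable {K : Type} [Field K] [Fintype K]

/-- **The torus of `²E₆(q)`.** -/
theorem T_pow {q : ℕ} (hK : Fintype.card K = q ^ 2) (t : ↥(twistedE6 K q)) (ht : t ∈ T K q) :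
    t ^ (q ^ 2 - 1) = 1 := by
  rw [← hK]
  have h1 : ((t : ↥(twistedE6 K q)) : GL chevE6.Idx K) ∈ chevE6.diagonalSubgroup K := (Subgroup.mem_subgroupOf.1 ht).1
  obtain ⟨χ, hχ⟩ := HMatDiagAll.mem_torus.1 (HMatDiagAll.diagonalSubgroup_le_torus hp.inList h1)
  have hinv : (((t : GL chevE6.Idx K)⁻¹ : GL chevE6.Idx K) : Matrix chevE6.Idx chevE6.Idx K) *
      ((t : GL chevE6.Idx K) : Matrix _ _ K) = 1 := by
    rw [← Units.val_mul, inv_mul_cancel]; rfl
  have hne : ∀ i, χ i ≠ 0 := by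
    intro i h0
    rw [hχ] at hinv
    have h2 := congrFun (congrFun hinv (Sum.inr i)) (Sum.inr i)
    rw [Matrix.mul_diagonal, Matrix.one_apply_eq, Sum.elim_inr, h0, mul_zero] at h2
    exact zero_ne_one h2
  apply Subtype.ext
  apply Units.ext
  rw [SubgroupClass.coe_pow, Units.val_pow_eq_pow_val, hχ, Matrix.diagonal_pow, OneMemClass.coe_one, Units.val_one,
    ← Matrix.diagonal_one]
  congr 1
  funext i
  rcases i with i | i
  · simp
  · rw [Pi.pow_apply, Sum.elim_inr]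
    exact FiniteField.pow_card_sub_one_eq_one _ (hne i)

/-- **`²E₆(q)`** -/
theorem perm_2E6 {S : Type u} [Group S] [Finite S] {p r : ℕ} [hpp : Fact p.Prime] [hr : Fact r.Prime] [CharP K r]
    (hrp : r ≠ p) {q : ℕ} (hq : IsPrimePow q) (hK : Fintype.card K = q ^ 2) (hq' : ¬ p ∣ q ^ 2 - 1)
    (hpS : p ∣ Nat.card S) (e : Nonempty (S ≃* Lie.twistedE6 K q)) : H326.EB.PermHyp p S := by
  obtain ⟨e⟩ := e
  intro A _ _ f hf hn _ _
  refine H326.EB.transport e f ?_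
  obtain ⟨φ, hφ, hqq⟩ := exists_frob hq hK
  let cs : CoxeterSystem CoxeterMatrix.F₄ CoxeterMatrix.F₄.Group := CoxeterMatrix.F₄.toCoxeterSystem
  have : Finite CoxeterMatrix.F₄.Group := finite_W (hp := Nodes.RGDTwE6.hp) cs isCartan foldData
  have R := Cfsg.Agent.Nodes.RGDTwE6.rgd cs hφ hqq r
  have hG1 := G1_top cs hφ hqq
  have hG := GG_eq_top (T := T K q) hG1
  have hσ : ∀ (β : MulAut ↥(twistedE6 K q)) (σ : Equiv.Perm (Fin 4)), Diag (T K q) (X φ q) β σ → σ = 1 := by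
    intro β σ D
    apply perm_F4 σ (D.matrix R)
    intro h3
    have h4 := KFacts.RgdNodes.Diag.card_eq D 0
    rw [h3] at h4
    exact card_ne hφ hqq hK hq.one_lt h4
  have hf' : Function.Injective (f.comp e.symm.toMonoidHom) := hf.comp e.symm.injective
  have hr' : (f.comp e.symm.toMonoidHom).range = f.range := by
    ext a
    constructor
    · rintro ⟨s, rfl⟩
      exact ⟨e.symm s, rfl⟩
    · rintro ⟨s, rfl⟩
      exact ⟨e s, by show f (e.symm (e s)) = f s; rw [MulEquiv.symm_apply_apply]⟩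
  have hn' : (f.comp e.symm.toMonoidHom).range.Normal := by rw [hr']; exact hn
  obtain ⟨N, h1, h2, h3⟩ := exists_Y R hG hσ (f.comp e.symm.toMonoidHom) hf' hn'
  have hB := not_dvd_B R hpp.out hr.out hrp (T_pow hK) hq'
  have hidx : p ∣ (RGD.B cs isCartan (T K q) (X φ q)).index := by
    have h4 := (RGD.B cs isCartan (T K q) (X φ q)).card_mul_index
    rw [Nat.card_congr e.toEquiv, ← h4] at hpS
    exact (hpp.out.dvd_mul.1 hpS).resolve_left hB
  refine ⟨RGD.B cs isCartan (T K q) (X φ q), hidx, ?_, N, h1, h2, h3⟩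
  intro h4
  rw [h4, Subgroup.index_top] at hidx
  exact hpp.out.one_lt.ne' (Nat.dvd_one.1 hidx)

theorem extB_2E6_of {S : Type u} [Group S] [Finite S] {p : ℕ} [Fact p.Prime] {M : Ideal AlgInt}
    (hE : H326.EB.PermHyp p S → H508.KB.ExtB p M S) {r : ℕ} [Fact r.Prime] {F : Type} [Field F]
    [Fintype F] [CharP F r] (hrp : r ≠ p) (q : ℕ) (hq : IsPrimePow q) (hF : Fintype.card F = q ^ 2)
    (hq' : ¬ p ∣ q ^ 2 - 1) (hpS : p ∣ Nat.card S) (e : Nonempty (S ≃* Lie.twistedE6 F q)) :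
    H508.KB.ExtB p M S := hE (perm_2E6 hrp hq hF hq' hpS e)

end Cfsg.Agent.H69.EB
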