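import Cfsg.Agent.KFacts.RgdDiag
import Cfsg.Agent.KFacts.RgdAutFacts

/-!
# S4822, `ExtB`: groups with a root group datum and no diagram automorphisms (helper69)

`Y` a finite group generated by the root groups of a root group datum of characteristic `r`, such that every
automorphism which permutes the simple root groups fixes the nodes.

* `exists_cells` : an automorphism fixing `U` maps every `s` into `B s B`;
* **`exists_Y`** : `f : Y → A` injective with normal image: `N = N_A(f(U))` satisfies `f⁻¹(N) = B`, `f(Y) N = A`, and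
  `N` fixes the double cosets of `B`.
-/

set_option autoImplicit false
set_option linter.unusedSectionVars false

namespace Cfsg.Agent.H69.EB

open CoxeterSystem Cfsg.Agent.ChevalleyStructure.CoxeterGeom Cfsg.Agent.Tits.Roots Cfsg.Agent.Tits.Core
  Cfsg.Agent.Tits.Exchange Cfsg.Agent.Nodes.Reps Cfsg.Agent.Nodes.BNOf Cfsg.Agent.Nodes.StabComb
  Cfsg.Agent.Nodes.Bruhat Cfsg.Agent.Nodes.OppDec Cfsg.Agent.Nodes.LeviDec Cfsg.Agent.Nodes.NormalForm
  Cfsg.Agent.KFacts.RgdOpp Cfsg.Agent.KFacts.RgdAut Cfsg.Agent.KFacts.RgdDiag Cfsg.Agent.KFacts.RgdAutFacts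

variable {I W Y : Type*} [Fintype I] [DecidableEq I] [Group W] [Group Y] {M : CoxeterMatrix I}
  {cs : CoxeterSystem M W} {A : I → I → ℤ} {h : IsCartan M A} {r : ℕ} {T : Subgroup Y} {n : I → Y}
  {X : (I → ℤ) → Subgroup Y}

theorem hat_one (hσ : ∀ i j, M ((1 : Equiv.Perm I) i) ((1 : Equiv.Perm I) j) = M i j) (w : W) :
    hat cs 1 hσ w = w := by
  obtain ⟨ω, rfl⟩ := cs.wordProd_surjective w
  induction ω with
  | nil => rw [wordProd_nil, map_one]
  | cons i ω ih => rw [wordProd_cons, map_mul, hat_simple, ih]; rfl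

variable (R : RGD cs h r T n X) [Finite W]

include R

/-- two elements of the same cell -/
theorem of_cell {w : W} {s s' : Y} (hs : Cell R.nsys cs h X w s) (hs' : Cell R.nsys cs h X w s') :
    ∃ x₁ ∈ RGD.B cs h T X, ∃ x₂ ∈ RGD.B cs h T X, s' = x₁ * s * x₂ := by
  obtain ⟨b₁, hb₁, k, hk, b₂, hb₂, rfl⟩ := hs
  obtain ⟨c₁, hc₁, l, hl, c₂, hc₂, rfl⟩ := hs'
  have ht : k⁻¹ * l ∈ T := hk.unique hl
  refine ⟨c₁ * b₁⁻¹, mul_mem hc₁ (inv_mem hb₁), b₂⁻¹ * (k⁻¹ * l) * c₂,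
    mul_mem (mul_mem (inv_mem hb₂) (RGD.T_le_B ht)) hc₂, ?_⟩
  group

/-- **Automorphisms fixing `U` fix the double cosets of `B`.** -/
theorem exists_cells (hG : GG cs h T X = ⊤) (hσ : ∀ (β : MulAut Y) (σ : Equiv.Perm I), Diag T X β σ → σ = 1)
    {α : MulAut Y} (hα : Fix α (RGD.Sup X (RGD.Pos cs h))) (s : Y) :
    ∃ x₁ ∈ RGD.B cs h T X, ∃ x₂ ∈ RGD.B cs h T X, α s = x₁ * s * x₂ := by
  obtain ⟨u, hu, hU, hB, hUN, hBN, hT⟩ := exists_frame R hG hα
  obtain ⟨σ, D⟩ := exists_diag R hG hU hUN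
  obtain rfl := hσ _ _ D
  have huB : u ∈ RGD.B cs h T X := RGD.U_le_B hu
  obtain ⟨w, hw⟩ := (mem_GG R).1 (show s ∈ GG cs h T X by rw [hG]; exact Subgroup.mem_top _)
  obtain ⟨b₁, hb₁, k, hk, b₂, hb₂, rfl⟩ := hw
  have h1 := D.rp' (R := R) (D.matrix R) hk
  rw [hat_one] at h1
  have h2 : Cell R.nsys cs h X w ((MulAut.conj u * α) (b₁ * k * b₂)) := by
    rw [map_mul, map_mul]
    exact ⟨_, (hB _).2 hb₁, _, h1, _, (hB _).2 hb₂, rfl⟩
  have h3 : α (b₁ * k * b₂) = u⁻¹ * (MulAut.conj u * α) (b₁ * k * b₂) * u := by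
    rw [MulAut.mul_apply, MulAut.conj_apply]
    group
  have h4 : Cell R.nsys cs h X w (α (b₁ * k * b₂)) := by
    rw [h3]
    exact (h2.mul_left (inv_mem huB)).mul_right huB
  exact of_cell R ⟨b₁, hb₁, k, hk, b₂, hb₂, rfl⟩ h4

omit [Finite W] R in
/-- conjugation on the image of a monomorphism -/
theorem exists_conj {A' : Type*} [Group A'] {f : Y →* A'} (hf : Function.Injective f) (hN : f.range.Normal) (a : A') :
    ∃ α : MulAut Y, ∀ s, f (α s) = a * f s * a⁻¹ := by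
  let e : Y ≃* f.range := MonoidHom.ofInjective hf
  refine ⟨(e.trans (MulAut.conjNormal a)).trans e.symm, fun s => ?_⟩
  have h1 : ∀ x : f.range, f (e.symm x) = x := fun x => congrArg Subtype.val (e.apply_symm_apply x)
  change f (e.symm (MulAut.conjNormal a (e s))) = _
  rw [h1, MulAut.conjNormal_apply]
  rfl

omit [Finite W] R in
theorem mem_norm_map {A' : Type*} [Group A'] {f : Y →* A'} (hf : Function.Injective f) {U : Subgroup Y} {a : A'}
    {α : MulAut Y} (hα : ∀ s, f (α s) = a * f s * a⁻¹) :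
    a ∈ Subgroup.normalizer (U.map f : Set A') ↔ Fix α U := by
  have hmem : ∀ y, f y ∈ U.map f ↔ y ∈ U := fun y => Subgroup.mem_map_iff_mem hf
  rw [Subgroup.mem_normalizer_iff]
  constructor
  · intro h s
    rw [← hmem, ← hmem s, hα]
    exact (h (f s)).symm
  · intro h g
    constructor
    · rintro ⟨y, hy, rfl⟩
      rw [← hα]
      exact (hmem _).2 ((h y).2 hy)
    · rintro ⟨y, hy, e⟩
      have h1 : g = f (α⁻¹ y) := by
        have h2 := hα (α⁻¹ y)
        rw [MulAut.apply_inv_self, e] at h2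
        have h3 : g = a⁻¹ * (a * g * a⁻¹) * a := by group
        rw [h3, h2]
        group
      rw [h1]
      exact (hmem _).2 ((h.inv y).2 hy)

/-- **The subgroup `N_A(f(U))`.** -/
theorem exists_Y [Finite Y] [Fact r.Prime] (hG : GG cs h T X = ⊤)
    (hσ : ∀ (β : MulAut Y) (σ : Equiv.Perm I), Diag T X β σ → σ = 1) {A' : Type*} [Group A'] (f : Y →* A')
    (hf : Function.Injective f) (hN : f.range.Normal) :
    ∃ N : Subgroup A', N.comap f = RGD.B cs h T X ∧ f.range ⊔ N = ⊤ ∧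
      ∀ s : Y, ∀ y ∈ N, ∃ x₁ ∈ RGD.B cs h T X, ∃ x₂ ∈ RGD.B cs h T X, ∃ s' : Y, f s' = y * f s * y⁻¹ ∧
        s' = x₁ * s * x₂ := by
  refine ⟨Subgroup.normalizer (((RGD.Sup X (RGD.Pos cs h)).map f : Subgroup A') : Set A'), ?_, ?_, ?_⟩
  · ext y
    rw [Subgroup.mem_comap, mem_norm_map hf (α := MulAut.conj y)
      (fun s => by rw [MulAut.conj_apply, map_mul, map_mul, map_inv]), ← normalizer_U' R hG,
      Subgroup.mem_normalizer_iff]
    exact ⟨fun h s => (h s).symm, fun h s => (h s).symm⟩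
  · rw [eq_top_iff]
    intro a _
    obtain ⟨α, hα⟩ := exists_conj hf hN a
    obtain ⟨S₀, hS₀⟩ := exists_sylow R hG
    have h1 : IsPGroup r ↥((RGD.Sup X (RGD.Pos cs h)).map α.toMonoidHom) := R.isPGroup_Upos.map _
    have hcard : Nat.card ↥((RGD.Sup X (RGD.Pos cs h)).map α.toMonoidHom) = Nat.card ↥(RGD.Sup X (RGD.Pos cs h)) :=
      Nat.card_congr (Subgroup.equivMapOfInjective _ α.toMonoidHom α.injective).symm.toEquiv
    obtain ⟨S, hS⟩ := h1.exists_le_sylow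
    have hS' : (S : Subgroup Y) = (RGD.Sup X (RGD.Pos cs h)).map α.toMonoidHom := by
      symm
      apply Subgroup.eq_of_le_of_card_ge hS
      rw [hcard, ← hS₀]
      exact (Nat.card_congr (Sylow.equiv S S₀).toEquiv).le
    obtain ⟨g, hg⟩ := sylow_eq_cj R hG S
    rw [hS'] at hg
    have h2 : f g⁻¹ * a ∈ Subgroup.normalizer (((RGD.Sup X (RGD.Pos cs h)).map f : Subgroup A') : Set A') := by
      rw [mem_norm_map hf (α := MulAut.conj g⁻¹ * α) (fun s => by
        rw [MulAut.mul_apply, MulAut.conj_apply, map_mul, map_mul, hα, map_inv, map_inv, mul_inv_rev, map_inv]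
        group)]
      rw [fix_iff]
      have h3 : (RGD.Sup X (RGD.Pos cs h)).map (MulAut.conj g⁻¹ * α).toMonoidHom =
          ((RGD.Sup X (RGD.Pos cs h)).map α.toMonoidHom).map (MulAut.conj g⁻¹).toMonoidHom := by
        rw [Subgroup.map_map]
        rfl
      rw [h3, hg]
      ext x
      constructor
      · rintro ⟨y, hy, rfl⟩
        have h4 : g⁻¹ * y * g ∈ RGD.Sup X (RGD.Pos cs h) := mem_cj.1 hy
        change g⁻¹ * y * g⁻¹⁻¹ ∈ _
        rw [inv_inv]
        exact h4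
      · intro hx
        refine ⟨g * x * g⁻¹, conj_mem_cj.2 hx, ?_⟩
        change g⁻¹ * (g * x * g⁻¹) * g⁻¹⁻¹ = x
        group
    have h3 : a = f g * (f g⁻¹ * a) := by rw [map_inv]; group
    rw [h3]
    exact mul_mem ((le_sup_left : f.range ≤ _) ⟨g, rfl⟩) ((le_sup_right : _ ≤ f.range ⊔ _) h2)
  · intro s y hy
    obtain ⟨α, hα⟩ := exists_conj hf hN y
    obtain ⟨x₁, h₁, x₂, h₂, e⟩ := exists_cells R hG hσ ((mem_norm_map hf hα).1 hy) s
    exact ⟨x₁, h₁, x₂, h₂, α s, hα s, e⟩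

omit [Finite W] in
/-- powers in `B` modulo `U` -/
theorem pow_mem_U {e : ℕ} (hT : ∀ t ∈ T, t ^ e = 1) {x : Y} (hx : x ∈ RGD.B cs h T X) :
    x ^ e ∈ RGD.Sup X (RGD.Pos cs h) := by
  obtain ⟨t, ht, u, hu, rfl⟩ := R.mem_B.1 hx
  have htN := R.T_le_normalizer_U ht
  have key : ∀ k : ℕ, ∃ v ∈ RGD.Sup X (RGD.Pos cs h), (t * u) ^ k = t ^ k * v := by
    intro k
    induction k with
    | zero => exact ⟨1, one_mem _, by rw [pow_zero, pow_zero, one_mul]⟩
    | succ k ih =>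
      obtain ⟨v, hv, e1⟩ := ih
      have h1 : t⁻¹ * v * t ∈ RGD.Sup X (RGD.Pos cs h) := by
        have := (Subgroup.mem_normalizer_iff.1 (inv_mem htN) v).1 hv
        rwa [inv_inv] at this
      refine ⟨t⁻¹ * v * t * u, mul_mem h1 hu, ?_⟩
      rw [pow_succ, e1, pow_succ]
      group
  obtain ⟨v, hv, e1⟩ := key e
  rw [e1, hT t ht, one_mul]
  exact hv

/-- **`p ∤ |B|`** -/
theorem not_dvd_B [Finite Y] {p e : ℕ} (hp : p.Prime) (hr : r.Prime) (hpr : r ≠ p) (hT : ∀ t ∈ T, t ^ e = 1)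
    (he : ¬ p ∣ e) : ¬ p ∣ Nat.card ↥(RGD.B cs h T X) := by
  intro hd
  have : Fact p.Prime := ⟨hp⟩
  obtain ⟨x, hx⟩ := exists_prime_orderOf_dvd_card' p hd
  have h1 := pow_mem_U R hT x.2
  obtain ⟨k, hk⟩ := R.isPGroup_Upos ⟨_, h1⟩
  have h2 : ((x : Y) ^ e) ^ r ^ k = 1 := congrArg Subtype.val hk
  rw [← pow_mul] at h2
  have h3 : p ∣ e * r ^ k := by
    rw [← hx, ← orderOf_submonoid]
    exact orderOf_dvd_of_pow_eq_one h2
  rcases hp.dvd_mul.1 h3 with h4 | h4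
  · exact he h4
  · exact hpr ((Nat.prime_dvd_prime_iff_eq hp hr).1 (hp.dvd_of_dvd_pow h4)).symm

end Cfsg.Agent.H69.EB
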